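import Mathlib

/-!
# The word of `v = s_β s_θ` (helper632, for S4879 row `E₈`, box of helper596)

`θ` the highest root, `β = θ - α₅ - α₆ - α₇` (nodes `0, …, 7`); the words of tools/h596_e8/cellwords.txt.
-/

set_option autoImplicit false

namespace Cfsg.Agent.H632.L8

/-- a reduced word of `v = s_β s_θ` (length `56`) -/
def vW : List (Fin 8) := [5, 6, 7, 6, 5, 4, 3, 2, 1, 3, 4, 5, 6, 0, 2, 3, 4, 5, 1, 3, 4, 2, 3, 0, 2, 1, 3, 4, 5, 6, 7, 6, 5, 4, 3, 2, 1, 3, 4, 5,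
  6, 0, 2, 3, 4, 5, 1, 3, 4, 2, 3, 0, 2, 1, 3, 4]

/-- a word of `w` with `w α₇ = θ` and `w α₅, α₁, α₄, α₃ = α₀, α₁, α₂, α₃` -/
def wT : List (Fin 8) := [7, 6, 5, 4, 3, 1, 2, 0, 3, 2, 4, 3, 1, 5, 4, 3, 2, 0, 6, 5, 4, 3, 1, 2, 3, 4, 5, 6]

/-- a word of `w` with `w α₇ = β` and `w α₅, α₁, α₄, α₃ = α₀, α₁, α₂, α₃` -/
def wB : List (Fin 8) := [4, 3, 1, 2, 0, 3, 2, 4, 3, 1, 5, 4, 3, 2, 0, 6, 5, 4, 3, 1, 2, 3, 4, 5, 6]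

end Cfsg.Agent.H632.L8
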